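import Mathlib.RingTheory.Ideal.KrullsHeightTheorem
import Mathlib.RingTheory.KrullDimension.Basic
import Mathlib.RingTheory.Spectrum.Prime.Jacobson
import Mathlib.Topology.KrullDimension
import Mathlib.AlgebraicGeometry.Noetherian
import Mathlib.Topology.JacobsonSpace
import Mathlib.RingTheory.Localization.Away.Basic
import Mathlib.Topology.NoetherianSpace
import Mathlib.Tactic

/-! Locally closed points in locally Noetherian spaces; Artin-Tate criterion. -/

universe u

namespace Groth.Agent.NoethPts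

open Topology

/-- In a Noetherian domain with an isolated generic point, the nonzero primes are maximal and finitely many. -/
theorem isMaximal_and_finite_of_isolated {B : Type u} [CommRing B] [IsDomain B] [IsNoetherianRing B]
    {f : B} (hf : f ≠ 0) (hiso : ∀ P : Ideal B, P.IsPrime → f ∉ P → P = ⊥) :
    (∀ P : Ideal B, P.IsPrime → P ≠ ⊥ → P.IsMaximal) ∧ Finite (PrimeSpectrum B) := by
  classical
  have hfin : ((Ideal.span {f}).minimalPrimes).Finite :=
    Ideal.finite_minimalPrimes_of_isNoetherianRing B _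
  have hmin : ∀ P : Ideal B, P.IsPrime → P ≠ ⊥ → P ∈ (Ideal.span {f}).minimalPrimes := by
    intro P hP hP0
    have hfP : ∀ Q : Ideal B, Q.IsPrime → Q ≠ ⊥ → f ∈ Q := fun Q hQ hQ0 => by
      by_contra h; exact hQ0 (hiso Q hQ h)
    have hle : Ideal.span {f} ≤ P := (Ideal.span_singleton_le_iff_mem _).2 (hfP P hP hP0)
    by_cases hsub : ∃ q ∈ (Ideal.span {f}).minimalPrimes, P ≤ q
    · obtain ⟨q, hq, hPq⟩ := hsub
      have hqP : q ≤ P := hq.2 ⟨hP, hle⟩ hPq
      rwa [← le_antisymm hqP hPq]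
    · exfalso
      push Not at hsub
      have : ¬ (P : Set B) ⊆ ⋃ q ∈ (↑hfin.toFinset : Set (Ideal B)), (q : Set B) := by
        rw [Ideal.subset_union_prime (⊥ : Ideal B) ⊥]
        · rintro ⟨q, hq, hPq⟩
          exact hsub q (hfin.mem_toFinset.1 hq) hPq
        · intro q hq _ _
          exact (hfin.mem_toFinset.1 hq).1.1
      obtain ⟨x, hxP, hx⟩ := Set.not_subset.1 this
      simp only [Set.mem_iUnion, not_exists, Set.Finite.coe_toFinset, SetLike.mem_coe] at hx
      have hxle : Ideal.span {x} ≤ P := (Ideal.span_singleton_le_iff_mem _).2 hxP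
      obtain ⟨q', hq', hq'P⟩ := Ideal.exists_minimalPrimes_le hxle
      have hx0 : x ≠ 0 := by
        rintro rfl
        obtain ⟨q, hq, -⟩ := Ideal.exists_minimalPrimes_le hle
        exact hx q hq q.zero_mem
      have := hq'.1.1
      have hq'0 : q' ≠ ⊥ := by
        rintro rfl
        exact hx0 (Ideal.mem_bot.1 (hq'.1.2 (Ideal.mem_span_singleton_self x)))
      obtain ⟨q, hq, hqq'⟩ := Ideal.exists_minimalPrimes_le
        ((Ideal.span_singleton_le_iff_mem _).2 (hfP q' this hq'0))
      have := hq.1.1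
      have hq0 : (⊥ : Ideal B) < q := bot_lt_iff_ne_bot.2 fun h =>
        hf (Ideal.mem_bot.1 (h ▸ hq.1.2 (Ideal.mem_span_singleton_self f)))
      have hne : q ≠ q' := fun h => hx q hq (h ▸ hq'.1.2 (Ideal.mem_span_singleton_self x))
      have h1 : q'.height ≤ 1 := Ideal.height_le_one_of_isPrincipal_of_mem_minimalPrimes _ _ hq'
      have h2 := Ideal.height_strict_mono_of_isPrime_of_isPrime (lt_of_le_of_ne hqq' hne)
      have h3 := Ideal.height_strict_mono_of_isPrime_of_isPrime (I := (⊥ : Ideal B)) hq0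
      have h4 : q.height = 0 := ENat.lt_one_iff_eq_zero.1 (lt_of_lt_of_le h2 h1)
      simp [h4] at h3
  refine ⟨fun P hP hP0 => ?_, ?_⟩
  · obtain ⟨M, hM, hPM⟩ := P.exists_le_maximal hP.ne_top
    have hM0 : M ≠ ⊥ := fun h => hP0 (le_bot_iff.1 (h ▸ hPM))
    have hMP : M ≤ P := (hmin M hM.isPrime hM0).2 ⟨hP, (hmin P hP hP0).1.2⟩ hPM
    rwa [le_antisymm hPM hMP]
  · have : (Set.univ : Set (PrimeSpectrum B)) ⊆
        PrimeSpectrum.asIdeal ⁻¹' (insert ⊥ (Ideal.span {f}).minimalPrimes) := by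
      intro P _
      by_cases h : P.asIdeal = ⊥
      · exact Or.inl h
      · exact Or.inr (hmin _ P.isPrime h)
    exact Set.finite_univ_iff.1
      (((hfin.insert ⊥).preimage (fun _ _ _ _ h => PrimeSpectrum.ext h)).subset this)

theorem ringKrullDim_le_one_of_maximal {B : Type u} [CommRing B] [IsDomain B]
    (h : ∀ P : Ideal B, P.IsPrime → P ≠ ⊥ → P.IsMaximal) : ringKrullDim B ≤ 1 := by
  refine iSup_le fun l => ?_
  by_contra hl
  have h2 : 2 ≤ l.length := by
    by_contra h2
    exact hl (by exact_mod_cast (show l.length ≤ 1 by omega))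
  have hlt : l ⟨0, by omega⟩ < l ⟨1, by omega⟩ := l.strictMono (Fin.mk_lt_mk.2 (by omega))
  have hlt' : l ⟨1, by omega⟩ < l ⟨2, by omega⟩ := l.strictMono (by simp [Fin.lt_def])
  have hne : (l ⟨1, by omega⟩).asIdeal ≠ ⊥ := fun e =>
    (lt_irrefl (⊥ : Ideal B)) (bot_le.trans_lt (e ▸ (show (l ⟨0, by omega⟩).asIdeal < _ from hlt)))
  have := h _ (l ⟨1, by omega⟩).isPrime hne
  exact (l ⟨2, by omega⟩).isPrime.ne_top (this.out.2 _ hlt')

/-- `B[1/f]` is a field iff every prime not containing `f` is zero. -/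
theorem isField_away_iff {B : Type u} [CommRing B] [IsDomain B] {f : B} (hf : f ≠ 0) :
    IsField (Localization.Away f) ↔ ∀ P : Ideal B, P.IsPrime → f ∉ P → P = ⊥ := by
  have hd : IsDomain (Localization.Away f) :=
    IsLocalization.isDomain_localization (powers_le_nonZeroDivisors_of_noZeroDivisors hf)
  have hinj : Function.Injective (algebraMap B (Localization.Away f)) :=
    IsLocalization.injective _ (powers_le_nonZeroDivisors_of_noZeroDivisors hf)
  constructor
  · intro h P hP hfP
    letI := h.toField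
    have hdis : Disjoint (Submonoid.powers f : Set B) (P : Set B) :=
      Set.disjoint_left.2 fun a ⟨n, hn⟩ haP => hfP (hP.mem_of_pow_mem n (show f ^ n ∈ (P : Ideal B) by rw [show f ^ n = a from hn]; exact haP))
    have hp' := IsLocalization.isPrime_of_isPrime_disjoint (Submonoid.powers f) (Localization.Away f) P hP hdis
    rw [eq_bot_iff]
    intro a ha
    rcases Ideal.eq_bot_or_top (P.map (algebraMap B (Localization.Away f))) with h | h
    · exact Ideal.mem_bot.2 (hinj (by rw [map_zero]; exact Ideal.mem_bot.1 (h ▸ Ideal.mem_map_of_mem _ ha)))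
    · exact absurd h hp'.ne_top
  · intro h
    by_contra hnf
    obtain ⟨p, hp0, hp⟩ := Ring.not_isField_iff_exists_prime.1 hnf
    have hdis := ((IsLocalization.isPrime_iff_isPrime_disjoint (Submonoid.powers f) _ p).1 hp)
    have hb := h _ hdis.1 fun hfp => Set.disjoint_left.1 hdis.2 (Submonoid.mem_powers f) hfp
    exact hp0 ((IsLocalization.map_comap (Submonoid.powers f) _ p).symm.trans
      (by erw [hb]; exact Ideal.map_bot))

/-- A locally closed point of `Spec R`. -/
theorem exists_notMem_of_isLocallyClosed {R : Type u} [CommRing R] {p : PrimeSpectrum R}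
    (hp : IsLocallyClosed ({p} : Set (PrimeSpectrum R))) :
    ∃ g, g ∉ p.asIdeal ∧ ∀ q : PrimeSpectrum R, p ≤ q → g ∉ q.asIdeal → q = p := by
  obtain ⟨U, F, hU, hF, e⟩ := hp
  have hp' : p ∈ U ∩ F := e ▸ rfl
  obtain ⟨_, ⟨g, rfl⟩, hg, hgU⟩ := PrimeSpectrum.isTopologicalBasis_basic_opens.exists_subset_of_mem_open hp'.1 hU
  refine ⟨g, hg, fun q hpq hgq => ?_⟩
  have : q ∈ U ∩ F := ⟨hgU hgq, ((PrimeSpectrum.le_iff_specializes p q).1 hpq).mem_closed hF hp'.2⟩
  rw [← e] at this
  exact this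

theorem isField_away_quotient {R : Type u} [CommRing R] {p : PrimeSpectrum R} {g : R}
    (hg : g ∉ p.asIdeal) (hiso : ∀ q : PrimeSpectrum R, p ≤ q → g ∉ q.asIdeal → q = p) :
    ∀ P : Ideal (R ⧸ p.asIdeal), P.IsPrime → Ideal.Quotient.mk _ g ∉ P → P = ⊥ := by
  intro P hP hgP
  have := hiso ⟨P.comap (Ideal.Quotient.mk _), hP.comap _⟩ (by
    intro a ha
    change Ideal.Quotient.mk _ a ∈ P
    rw [Ideal.Quotient.eq_zero_iff_mem.2 ha]; exact P.zero_mem) hgP
  have e : P.comap (Ideal.Quotient.mk _) = p.asIdeal := congrArg PrimeSpectrum.asIdeal this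
  rw [← Ideal.map_comap_of_surjective _ Ideal.Quotient.mk_surjective P, e, Ideal.map_quotient_self]

theorem eq_of_le_of_le {R : Type u} [CommRing R] [IsNoetherianRing R] {p q r : PrimeSpectrum R}
    (hp : IsLocallyClosed ({p} : Set (PrimeSpectrum R))) (hpq : p ≤ q) (hqr : q ≤ r) (hne : q ≠ p) :
    q = r := by
  obtain ⟨g, hg, hiso⟩ := exists_notMem_of_isLocallyClosed hp
  have hg0 : Ideal.Quotient.mk p.asIdeal g ≠ 0 := fun h => hg (Ideal.Quotient.eq_zero_iff_mem.1 h)
  obtain ⟨hmax, -⟩ := isMaximal_and_finite_of_isolated hg0 (isField_away_quotient hg hiso)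
  have hker : RingHom.ker (Ideal.Quotient.mk p.asIdeal) ≤ q.asIdeal := by rw [Ideal.mk_ker]; exact hpq
  have hP := Ideal.map_isPrime_of_surjective Ideal.Quotient.mk_surjective hker
  have hc : (q.asIdeal.map (Ideal.Quotient.mk p.asIdeal)).comap (Ideal.Quotient.mk p.asIdeal) = q.asIdeal := by
    rw [Ideal.comap_map_of_surjective _ Ideal.Quotient.mk_surjective]
    exact sup_eq_left.2 hker
  have hP0 : q.asIdeal.map (Ideal.Quotient.mk p.asIdeal) ≠ ⊥ := by
    intro h
    rw [h] at hc
    exact hne (le_antisymm (show q.asIdeal ≤ p.asIdeal by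
      rw [← hc]; intro a ha; exact Ideal.Quotient.eq_zero_iff_mem.1 (by simpa using ha)) hpq)
  have : q.asIdeal.IsMaximal := by
    rw [← hc]
    have := hmax _ hP hP0
    exact Ideal.comap_isMaximal_of_surjective _ Ideal.Quotient.mk_surjective
  exact PrimeSpectrum.ext (this.eq_of_le r.isPrime.ne_top hqr)

open AlgebraicGeometry

/-- In a scheme every nonempty locally closed subset contains a locally closed point. -/
theorem exists_isLocallyClosed_singleton {X : Scheme.{u}} {Z : Set X} (hZ : IsLocallyClosed Z)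
    (hne : Z.Nonempty) : ∃ x ∈ Z, IsLocallyClosed ({x} : Set X) := by
  obtain ⟨U, F, hU, hF, rfl⟩ := hZ
  obtain ⟨x₀, hx₀U, hx₀F⟩ := hne
  obtain ⟨_, ⟨W, hW, rfl⟩, hxW, hWU⟩ :=
    X.isBasis_affineOpens.exists_subset_of_mem_open hx₀U hU
  have : CompactSpace (W : Set X) := isCompact_iff_compactSpace.1 hW.isCompact
  have hF' : IsClosed ((Subtype.val : ↥(W : Set X) → X) ⁻¹' F) := hF.preimage continuous_subtype_val
  obtain ⟨y, hyF, hy⟩ := IsClosed.exists_closed_singleton hF' ⟨⟨x₀, hxW⟩, hx₀F⟩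
  refine ⟨y.1, ⟨hWU y.2, hyF⟩, ?_⟩
  simpa using hy.isLocallyClosed.image W.isOpen.isOpenEmbedding_subtypeVal.isInducing
    (by simpa using W.isOpen.isLocallyClosed)

/-- Specializations of a locally closed point have no further specializations. -/
theorem eq_of_specializes {X : Scheme.{u}} [IsLocallyNoetherian X] {x y z : X}
    (hx : IsLocallyClosed ({x} : Set X)) (hxy : x ⤳ y) (hne : y ≠ x) (hyz : y ⤳ z) : y = z := by
  obtain ⟨_, ⟨W, hW, rfl⟩, hzW, -⟩ :=
    X.isBasis_affineOpens.exists_subset_of_mem_open (Set.mem_univ z) isOpen_univ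
  have hyW := hyz.mem_open W.isOpen hzW
  have hxW := hxy.mem_open W.isOpen hyW
  have : IsNoetherianRing Γ(X, W) := IsLocallyNoetherian.component_noetherian ⟨W, hW⟩
  have hF : Topology.IsOpenEmbedding hW.fromSpec := hW.fromSpec.isOpenEmbedding
  have hr : Set.range hW.fromSpec = (W : Set X) := hW.range_fromSpec
  obtain ⟨x', rfl⟩ : x ∈ Set.range hW.fromSpec := hr.symm ▸ hxW
  obtain ⟨y', rfl⟩ : y ∈ Set.range hW.fromSpec := hr.symm ▸ hyW
  obtain ⟨z', rfl⟩ : z ∈ Set.range hW.fromSpec := hr.symm ▸ hzW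
  rw [hF.isInducing.specializes_iff] at hxy hyz
  have hx' : IsLocallyClosed ({x'} : Set (PrimeSpectrum Γ(X, W))) := by
    have := hx.preimage hF.continuous
    rwa [← Set.image_singleton, Set.preimage_image_eq _ hF.injective] at this
  exact congrArg _ (eq_of_le_of_le hx' ((PrimeSpectrum.le_iff_specializes _ _).2 hxy)
    ((PrimeSpectrum.le_iff_specializes _ _).2 hyz) fun h => hne (congrArg _ h))

theorem isClosed_singleton_of_specializes {X : Scheme.{u}} [IsLocallyNoetherian X] {x y : X}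
    (hx : IsLocallyClosed ({x} : Set X)) (hxy : x ⤳ y) (hne : y ≠ x) : IsClosed ({y} : Set X) := by
  refine closure_eq_iff_isClosed.1 (subset_antisymm (fun z hz => ?_) subset_closure)
  exact (eq_of_specializes hx hxy hne (specializes_iff_mem_closure.2 hz)).symm

theorem finite_closure_singleton {X : Scheme.{u}} [IsNoetherian X] {x : X}
    (hx : IsLocallyClosed ({x} : Set X)) : (closure ({x} : Set X)).Finite := by
  have hcl : IsClosed (closure ({x} : Set X) \ {x}) := by
    obtain ⟨U, F, hU, hF, e⟩ := hx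
    have hxUF : x ∈ U ∩ F := e ▸ rfl
    have : closure ({x} : Set X) \ {x} = closure {x} ∩ Uᶜ := by
      ext z
      constructor
      · rintro ⟨hz, hzx⟩
        refine ⟨hz, fun hzU => hzx ?_⟩
        rw [e]; exact ⟨hzU, closure_minimal (Set.singleton_subset_iff.2 hxUF.2) hF hz⟩
      · rintro ⟨hz, hzU⟩
        exact ⟨hz, fun h => hzU (by rw [Set.mem_singleton_iff.1 h]; exact hxUF.1)⟩
    rw [this]; exact isClosed_closure.inter hU.isClosed_compl
  obtain ⟨S, hSfin, hScl, hSirr, e⟩ :=
    TopologicalSpace.NoetherianSpace.exists_finite_set_isClosed_irreducible hcl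
  have h1 : ∀ t ∈ S, t.Finite := by
    intro t ht
    obtain ⟨g, hg⟩ := QuasiSober.sober (hSirr t ht) (hScl t ht)
    rw [← hg.def]
    have hgm : g ∈ closure ({x} : Set X) \ {x} := e ▸ Set.mem_sUnion_of_mem hg.mem ht
    rw [(isClosed_singleton_of_specializes hx (specializes_iff_mem_closure.2 hgm.1) hgm.2).closure_eq]
    exact Set.finite_singleton g
  exact ((hSfin.sUnion h1).insert x).subset fun z hz => by
    by_cases h : z = x
    · exact Or.inl h
    · exact Or.inr (e ▸ (⟨hz, h⟩ : z ∈ closure ({x} : Set X) \ {x}))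

theorem topologicalKrullDim_le_one_of_specializes {X : Type u} [TopologicalSpace X] [QuasiSober X] [T0Space X]
    (h : ∀ a b c : X, a ⤳ b → b ⤳ c → a = b ∨ b = c) : topologicalKrullDim X ≤ 1 := by
  refine iSup_le fun l => ?_
  by_contra hl
  have h2 : 2 ≤ l.length := by
    by_contra h2
    exact hl (by exact_mod_cast (show l.length ≤ 1 by omega))
  have hlt : l ⟨0, by omega⟩ < l ⟨1, by omega⟩ := l.strictMono (Fin.mk_lt_mk.2 (by omega))
  have hlt' : l ⟨1, by omega⟩ < l ⟨2, by omega⟩ := l.strictMono (by simp [Fin.lt_def])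
  have key : ∀ s t : TopologicalSpace.IrreducibleCloseds X, s < t →
      ∀ a b, IsGenericPoint a (t : Set X) → IsGenericPoint b (s : Set X) → a ⤳ b ∧ a ≠ b := by
    intro s t hst a b ha hb
    refine ⟨ha.specializes (hst.le hb.mem), ?_⟩
    rintro rfl
    exact hst.ne (TopologicalSpace.IrreducibleCloseds.ext (hb.def.symm.trans ha.def))
  have gp : ∀ s : TopologicalSpace.IrreducibleCloseds X, ∃ a, IsGenericPoint a (s : Set X) :=
    fun s => QuasiSober.sober s.isIrreducible s.isClosed
  obtain ⟨a, ha⟩ := gp (l ⟨2, by omega⟩)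
  obtain ⟨b, hb⟩ := gp (l ⟨1, by omega⟩)
  obtain ⟨c, hc⟩ := gp (l ⟨0, by omega⟩)
  rcases h a b c (key _ _ hlt' a b ha hb).1 (key _ _ hlt b c hb hc).1 with e | e
  · exact (key _ _ hlt' a b ha hb).2 e
  · exact (key _ _ hlt b c hb hc).2 e

theorem dim_closure_le_one {X : Scheme.{u}} [IsLocallyNoetherian X] {x : X}
    (hx : IsLocallyClosed ({x} : Set X)) : topologicalKrullDim (closure ({x} : Set X)) ≤ 1 := by
  haveI : QuasiSober (closure ({x} : Set X)) :=
    (isClosed_closure.isClosedEmbedding_subtypeVal).quasiSober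
  refine topologicalKrullDim_le_one_of_specializes fun a b c hab hbc => ?_
  rw [subtype_specializes_iff] at hab hbc
  by_cases hb : (b : X) = x
  · exact Or.inl (Subtype.ext ((hab.antisymm (show (b : X) ⤳ (a : X) by rw [hb]; exact specializes_iff_mem_closure.2 a.2)).eq))
  · exact Or.inr (Subtype.ext (eq_of_specializes hx (specializes_iff_mem_closure.2 b.2) hb hbc))

/-- Jacobson-ness criterion for open subspaces. -/
theorem jacobsonSpace_subtype {X : Scheme.{u}} {W : Set X} (hW : IsOpen W)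
    (h : ∀ x ∈ W, IsLocallyClosed ({x} : Set X) → closure {x} ∩ W ⊆ {x}) : JacobsonSpace W := by
  rw [jacobsonSpace_iff_locallyClosed]
  intro Z hne hZ
  have hZ' : IsLocallyClosed (Subtype.val '' Z : Set X) :=
    hZ.image hW.isOpenEmbedding_subtypeVal.isInducing (by simpa using hW.isLocallyClosed)
  obtain ⟨_, ⟨x, hxZ, rfl⟩, hx⟩ := exists_isLocallyClosed_singleton hZ' (hne.image _)
  refine ⟨x, hxZ, ?_⟩
  rw [mem_closedPoints_iff]
  refine closure_eq_iff_isClosed.1 (subset_antisymm (fun z hz => ?_) subset_closure)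
  have hz' : (z : X) ∈ closure ({(x : X)} : Set X) := by
    rw [closure_subtype] at hz; simpa using hz
  exact Subtype.ext (h x x.2 hx ⟨hz', z.2⟩)

end Groth.Agent.NoethPts
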