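import Groth.Agent.NoethPts.Basic
import Mathlib.AlgebraicGeometry.Morphisms.FiniteType
import Mathlib.RingTheory.KrullDimension.LocalRing

/-! Failure of the Jacobson property via locally closed points. -/

universe u

namespace Groth.Agent.NoethPts

open AlgebraicGeometry Topology

/-- A non-Jacobson scheme has a locally closed point that is not closed. -/
theorem exists_point_of_not_jacobsonSpace {X : Scheme.{u}} (h : ¬ JacobsonSpace X) :
    ∃ x : X, IsLocallyClosed ({x} : Set X) ∧ ¬ IsClosed ({x} : Set X) := by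
  by_contra hc
  push Not at hc
  refine h (jacobsonSpace_iff_locallyClosed.2 fun Z hne hZ => ?_)
  obtain ⟨x, hxZ, hx⟩ := exists_isLocallyClosed_singleton hZ hne
  exact ⟨x, hxZ, hc x hx⟩

theorem exists_prime_of_not_isJacobsonRing {A : Type u} [CommRing A] (h : ¬ IsJacobsonRing A) :
    ∃ (p : PrimeSpectrum A) (g : A), ¬ p.asIdeal.IsMaximal ∧ g ∉ p.asIdeal ∧
      ∀ q : PrimeSpectrum A, p ≤ q → g ∉ q.asIdeal → q = p := by
  rw [PrimeSpectrum.isJacobsonRing_iff_jacobsonSpace] at h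
  obtain ⟨x, hx, hxc⟩ := exists_point_of_not_jacobsonSpace (X := Spec (.of A)) h
  obtain ⟨g, hg, hiso⟩ := exists_notMem_of_isLocallyClosed (p := x) hx
  exact ⟨x, g, fun hm => hxc ((PrimeSpectrum.isClosed_singleton_iff_isMaximal x).2 hm), hg, hiso⟩

/-- A Jacobson domain with isolated generic point is a field. -/
theorem isField_of_isJacobsonRing_of_isolated {R : Type u} [CommRing R] [IsDomain R] [IsJacobsonRing R]
    {f : R} (hf : f ≠ 0) (hiso : ∀ P : Ideal R, P.IsPrime → f ∉ P → P = ⊥) : IsField R := by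
  obtain ⟨x, hx, hxc⟩ := PrimeSpectrum.exists_isClosed_singleton_of_isJacobsonRing
    (PrimeSpectrum.basicOpen f : Set (PrimeSpectrum R)) (PrimeSpectrum.basicOpen f).isOpen
    ⟨⟨⊥, Ideal.bot_prime⟩, show f ∉ (⊥ : Ideal R) by simpa using hf⟩
  have hm := (PrimeSpectrum.isClosed_singleton_iff_isMaximal x).1 hxc
  rw [hiso _ x.isPrime hx] at hm
  by_contra hR
  obtain ⟨I, hI, hI'⟩ := Ring.not_isField_iff_exists_ideal_bot_lt_and_lt_top.1 hR
  exact hI'.ne (hm.1.2 I hI)

theorem not_semilocal_dim_one {R : Type u} [CommRing R] [IsDomain R] [IsJacobsonRing R]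
    (hm : Finite (MaximalSpectrum R)) (hd : ringKrullDim R = 1) : False := by
  classical
  haveI : Ring.KrullDimLE 1 R := Ring.krullDimLE_iff.2 hd.le
  haveI := Fintype.ofFinite (MaximalSpectrum R)
  have hF : ¬ IsField R := fun h => zero_ne_one ((ringKrullDim_eq_zero_of_isField h) ▸ hd)
  have hsel : ∀ m : MaximalSpectrum R, ∃ a : R, a ≠ 0 ∧ a ∈ m.asIdeal := fun m => by
    obtain ⟨a, ha, ha0⟩ := Submodule.exists_mem_ne_zero_of_ne_bot
      (p := m.asIdeal) (fun h => Ring.ne_bot_of_isMaximal_of_not_isField m.isMaximal hF h)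
    exact ⟨a, ha0, ha⟩
  choose a ha0 ha using hsel
  refine hF (isField_of_isJacobsonRing_of_isolated
    (f := ∏ m, a m) (Finset.prod_ne_zero_iff.2 fun m _ => ha0 m) fun P hP hf => ?_)
  by_contra hP0
  exact hf (P.mem_of_dvd (Finset.dvd_prod_of_mem a
    (Finset.mem_univ (⟨P, hP.isMaximal_of_ne_bot hP0⟩ : MaximalSpectrum R))) (ha ⟨P, hP.isMaximal_of_ne_bot hP0⟩))

theorem semilocal_dim_one_of_isolated {R : Type u} [CommRing R] [IsDomain R] [IsNoetherianRing R]
    {f : R} (hf : f ≠ 0) (hiso : ∀ P : Ideal R, P.IsPrime → f ∉ P → P = ⊥) (hR : ¬ IsField R) :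
    Finite (MaximalSpectrum R) ∧ ringKrullDim R = 1 := by
  obtain ⟨hmax, hfin⟩ := isMaximal_and_finite_of_isolated hf hiso
  refine ⟨Finite.of_injective (fun m : MaximalSpectrum R => (⟨m.asIdeal, m.isMaximal.isPrime⟩ : PrimeSpectrum R))
    (fun a b e => MaximalSpectrum.ext (congrArg PrimeSpectrum.asIdeal e :)), le_antisymm (ringKrullDim_le_one_of_maximal hmax) ?_⟩
  have h0 : ¬ ringKrullDim R ≤ 0 := fun h => by
    haveI : Ring.KrullDimLE 0 R := Ring.krullDimLE_iff.mpr h
    exact hR Ring.KrullDimLE.isField_of_isDomain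
  exact Order.succ_le_of_lt (lt_of_not_ge h0)

end Groth.Agent.NoethPts
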